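import Cfsg.Agent.H360.EP.BlockB
import Cfsg.Agent.H954.LD.Row
import Cfsg.Agent.H677.DG.TriBM
import Cfsg.Agent.H149.Sp.Quot
import Cfsg.Agent.S2084

/-!
# S4910, row B (helper676)

`row_B` : `CopRow S` for `Spor.IsoB S`: the degree `4371` and a degree prime to `4371` (`H360.EP.blockB`, `H954.LD`).
-/

set_option autoImplicit false
set_option linter.unusedSectionVars false

open Cfsg

namespace Cfsg.Agent.H676.LD

open Cfsg.Agent.Characters.Core

universe u

variable {S : Type u} [Group S] [Finite S]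

/-- **S4910, row B.** -/
theorem row_B [IsSimpleGroup S] (h : Spor.IsoB S) : Cfsg.Agent.H954.LD.CopRow S := by
  have ho : Nat.card (Cfsg.Out S) = 1 := h.elim fun e => (Cfsg.Agent.H149.Sp.card_out_congr e).trans S2084.result
  have hcard : Nat.card S = 4154781481226426191177580544000000 := Cfsg.Agent.H792.LD.card_b h
  obtain ⟨e⟩ := id h
  have hfin : Finite Spor.BabyMonster := Finite.of_equiv _ e.toEquiv
  have hnt : Nontrivial Spor.BabyMonster := e.symm.toEquiv.nontrivial
  obtain ⟨ψ, hψ⟩ := Cfsg.Agent.H677.TriBM.exists_b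
  have hψ' : IsIrrCharacter S ((ψ : Spor.BabyMonster → ℂ) ∘ e) := isIrr_comp e.toMonoidHom e.surjective ψ.2
  have hψd : charDegree ((ψ : Spor.BabyMonster → ℂ) ∘ e) = 4371 := by
    rw [← hψ]
    unfold charDegree
    rw [Function.comp_apply, map_one]
  have h13 : Fact (Nat.Prime 13) := ⟨by norm_num⟩
  obtain ⟨x, hx⟩ := exists_prime_orderOf_dvd_card' (G := S) 13 (by rw [hcard]; norm_num)
  obtain ⟨M, hM⟩ := Cfsg.Agent.Blocks.ExistsModular.exists_isPModular Nat.prime_two
  obtain ⟨χ, hχ, h38, -⟩ := Cfsg.Agent.H360.EP.blockB h hx hM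
  have hna : ¬ IsMulCommutative S := by
    intro hc
    have hp : (Nat.card S).Prime := by
      let _ : CommGroup S := { (inferInstance : Group S) with mul_comm := fun a b => hc.is_comm.comm a b }
      exact IsSimpleGroup.prime_card
    rw [hcard] at hp
    norm_num at hp
  exact Cfsg.Agent.H954.LD.copRow_one hna ho (α := χ) (β := ⟨_, hψ'⟩)
    (by
      intro h1
      rw [h1] at h38
      norm_num at h38)
    (by
      show charDegree ((ψ : Spor.BabyMonster → ℂ) ∘ e) ≠ 1
      rw [hψd]
      norm_num)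
    (by
      show Nat.Coprime (charDegree (χ : S → ℂ)) (charDegree ((ψ : Spor.BabyMonster → ℂ) ∘ e))
      rw [hψd]
      exact hχ)

end Cfsg.Agent.H676.LD
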