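import Cfsg.Agent.H676.Deg.MInst
import Cfsg.Agent.H954.LD.Row
import Cfsg.Agent.H816.IMM
import Cfsg.Agent.S2085
import Cfsg.Agent.H66.LD.Loc3C
import Cfsg.Agent.H653.ThE.P5
import Cfsg.Agent.H241.Deg.MonFinal
import Cfsg.Agent.H58.Cop.MSc
import Cfsg.Agent.H436.MonLoc

/-!
# S4910, row M (helper676)

`row_M` : `CopRow S` for `Spor.IsoM S`: the degree `196883` and a degree prime to `196883` (`MInst.row`).
-/

set_option autoImplicit false
set_option linter.unusedSectionVars false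

open Cfsg

namespace Cfsg.Agent.H676.LD

open Subgroup
open Cfsg.Agent.Characters.Core
open Cfsg.Agent.H241.NH Cfsg.Agent.H241.Mon

universe u

/-- the character of the model -/
theorem model (B : Cfsg.Agent.H940.Eng.Base) :
    ∃ χ : IrrCharacter Gam, Nat.Coprime (charDegree (χ : Gam → ℂ)) 196883 ∧ 3 ∣ charDegree (χ : Gam → ℂ) := by
  have hK := Cfsg.Agent.H438.Fpr.Mon.allKnown B
  obtain ⟨θ, h1, h2, -, -, h3⟩ := Cfsg.Agent.H653.ThE.exists_theta
  refine Cfsg.Agent.H676.Deg.MInst.row (Cfsg.Agent.H715.Mon.Grp.sThree B) (fun y hy => ?_)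
    (fun y hy => Cfsg.Agent.H241.Deg.Mon.card41 B hy) (fun y hy => ?_)
    (fun y hy => (Cfsg.Agent.H58.Cop.M.norm_fiftynine hK hy).1)
    (fun y hy => (Cfsg.Agent.H241.Deg.Mon.norm71 B hy).1) Cfsg.Agent.H66.LD.Loc3C.m0 ⟨θ, h1, h2, h3⟩
  · exact Cfsg.Agent.H626.LD.TwentyNine.card_cent hy
  · rw [show (2 * 47 : ℕ) = 47 * 2 by norm_num]
    exact Cfsg.Agent.H436.MonLoc.card47 hK hy

variable {S : Type u} [Group S] [Finite S]

/-- **S4910, row M.** -/
theorem row_M (B : Cfsg.Agent.H940.Eng.Base) [IsSimpleGroup S] (h : Spor.IsoM S) : Cfsg.Agent.H954.LD.CopRow S := by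
  have ho : Nat.card (Cfsg.Out S) = 1 := h.elim fun e => (Cfsg.Agent.H149.Sp.card_out_congr e).trans S2085.result
  obtain ⟨e1⟩ := id h
  obtain ⟨e2⟩ := MonsterP.Equiv.equiv
  let e : S ≃* Gam := e1.trans e2
  obtain ⟨ψ, hψ, hψ1⟩ := Cfsg.Agent.H816.IMM.exists_chi_196883 h
  obtain ⟨χ, hχ, hχ3⟩ := model B
  have hχ' : IsIrrCharacter S ((χ : Gam → ℂ) ∘ e) := isIrr_comp e.toMonoidHom e.surjective χ.2
  have hd : charDegree ((χ : Gam → ℂ) ∘ e) = charDegree (χ : Gam → ℂ) := by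
    unfold charDegree
    rw [Function.comp_apply, map_one]
  have hψd : charDegree ψ = 196883 := by
    have h5 := Cfsg.Agent.Blocks.Basic.irr_one_eq_charDegree hψ
    rw [hψ1] at h5
    exact_mod_cast h5.symm
  have hna : ¬ IsMulCommutative S := by
    intro hc
    have hcard := Cfsg.Agent.H816.IMM.card_eq h
    have hp : (Nat.card S).Prime := by
      letI : CommGroup S := { (inferInstance : Group S) with mul_comm := fun a b => hc.is_comm.comm a b }
      exact IsSimpleGroup.prime_card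
    rw [hcard] at hp
    norm_num at hp
  exact Cfsg.Agent.H954.LD.copRow_one hna ho (α := ⟨_, hχ'⟩) (β := ⟨ψ, hψ⟩)
    (by
      show charDegree ((χ : Gam → ℂ) ∘ e) ≠ 1
      rw [hd]
      intro h1
      rw [h1] at hχ3
      norm_num at hχ3)
    (by
      show charDegree ψ ≠ 1
      rw [hψd]
      norm_num)
    (by
      show Nat.Coprime (charDegree ((χ : Gam → ℂ) ∘ e)) (charDegree ψ)
      rw [hd, hψd]
      exact hχ)

end Cfsg.Agent.H676.LD
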